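import Cfsg.Agent.Lib.Helper85.ModelPSolv
import Cfsg.Agent.S5118

/-!
# A normal subgroup of a realizing group induces a normal subsystem

For a fusion system `F` over `S ≤ Ω` realized by `ι : S →* G` (image a Sylow `p`-subgroup) and a
normal subgroup `N` of `G`, the system `pullSys ι N` over `preSub ι N` of maps induced, through
`ι`, by conjugation with elements of `N` is a normal subsystem of `F`.
-/

set_option autoImplicit false

open Cfsg Cfsg.FusionSystem Cfsg.Agent.Lib.Helper85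

namespace Cfsg.Agent.Lib.Helper89.RealSimple

section

variable {Ω : Type*} [Group Ω] {S : Subgroup Ω} {G : Type*} [Group G]

open Classical in
/-- `ι` extended by `1` outside `S` -/
noncomputable def ix (ι : S →* G) (x : Ω) : G := if h : x ∈ S then ι ⟨x, h⟩ else 1

theorem ix_of_mem (ι : S →* G) {x : Ω} (h : x ∈ S) : ix ι x = ι ⟨x, h⟩ := dif_pos h

theorem ix_mem_range (ι : S →* G) {x : Ω} (h : x ∈ S) : ix ι x ∈ ι.range := by
  rw [ix_of_mem ι h]; exact ⟨_, rfl⟩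

theorem ix_mul (ι : S →* G) {x y : Ω} (hx : x ∈ S) (hy : y ∈ S) :
    ix ι (x * y) = ix ι x * ix ι y := by
  rw [ix_of_mem ι hx, ix_of_mem ι hy, ix_of_mem ι (S.mul_mem hx hy), ← map_mul]
  rfl

theorem ix_inv (ι : S →* G) {x : Ω} (hx : x ∈ S) : ix ι x⁻¹ = (ix ι x)⁻¹ := by
  rw [ix_of_mem ι hx, ix_of_mem ι (S.inv_mem hx), ← map_inv]
  rfl

theorem ix_inj {ι : S →* G} (hinj : Function.Injective ι) {x y : Ω} (hx : x ∈ S) (hy : y ∈ S)
    (h : ix ι x = ix ι y) : x = y := by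
  rw [ix_of_mem ι hx, ix_of_mem ι hy] at h
  exact congrArg Subtype.val (hinj h)

theorem mem_preSub_iff {ι : S →* G} {N : Subgroup G} {x : Ω} :
    x ∈ preSub ι N ↔ x ∈ S ∧ ix ι x ∈ N := by
  rw [mem_preSub]
  constructor
  · rintro ⟨hx, h⟩
    exact ⟨hx, by rw [ix_of_mem ι hx]; exact h⟩
  · rintro ⟨hx, h⟩
    exact ⟨hx, by rw [ix_of_mem ι hx] at h; exact h⟩

theorem exists_of_mem_range (ι : S →* G) {y : G} (hy : y ∈ ι.range) :
    ∃ x ∈ S, ix ι x = y := by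
  obtain ⟨x, rfl⟩ := hy
  exact ⟨x, x.2, ix_of_mem ι x.2⟩

/-- membership in a realized system, in terms of `ix` -/
theorem mem_iff_ix {F : FusionSystem S} {ι : S →* G} (hreal : F.IsRealizedBy ι)
    {P : Subgroup Ω} (hP : P ≤ S) (φ : P →* Ω) (hφ : ∀ x : P, φ x ∈ S) :
    φ ∈ F.Hom P ↔ ∃ g : G, ∀ x : P, ix ι (φ x) = g * ix ι x * g⁻¹ := by
  rw [hreal.2 P hP φ hφ]
  constructor
  · rintro ⟨g, hg⟩
    exact ⟨g, fun x => by rw [ix_of_mem ι (hφ x), ix_of_mem ι (hP x.2)]; exact hg x⟩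
  · rintro ⟨g, hg⟩
    exact ⟨g, fun x => by rw [← ix_of_mem ι (hφ x), ← ix_of_mem ι (hP x.2)]; exact hg x⟩

/-- lifting a conjugation of `G` to a homomorphism on a subgroup of `S` -/
theorem lift_conj {ι : S →* G} (hinj : Function.Injective ι) {R : Subgroup Ω} (hR : R ≤ S)
    (g : G) (hg : ∀ x : R, g * ix ι x * g⁻¹ ∈ ι.range) :
    ∃ ψ : R →* Ω, (∀ x : R, ψ x ∈ S) ∧ ∀ x : R, ix ι (ψ x) = g * ix ι x * g⁻¹ := by
  obtain ⟨ψ, hψ, h⟩ := exists_lift_conj hinj hR g (fun x => by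
    have := hg x
    rw [ix_of_mem ι (hR x.2)] at this
    exact this)
  exact ⟨ψ, hψ, fun x => by rw [ix_of_mem ι (hψ x), ix_of_mem ι (hR x.2)]; exact h x⟩

/-- lifting a conjugation of `G` normalizing the image of `K` to an automorphism of `K` -/
theorem exists_mulAut_lift [Finite G] {ι : S →* G} (hinj : Function.Injective ι)
    {K : Subgroup Ω} (hK : K ≤ S) (g : G)
    (hg : ∀ x : K, ∃ y ∈ K, ix ι y = g * ix ι x * g⁻¹) :
    ∃ β : MulAut K, ∀ x : K, ix ι (β x : Ω) = g * ix ι x * g⁻¹ := by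
  classical
  choose f hfK hf using hg
  have hmul : ∀ a b : K, f (a * b) = f a * f b := by
    intro a b
    apply ix_inj hinj (hK (hfK _)) (S.mul_mem (hK (hfK _)) (hK (hfK _)))
    rw [hf, ix_mul ι (hK (hfK a)) (hK (hfK b)), hf, hf]
    show g * ix ι ((a : Ω) * (b : Ω)) * g⁻¹ = _
    rw [ix_mul ι (hK a.2) (hK b.2)]
    group
  let ψ : K →* K := MonoidHom.mk' (fun x => ⟨f x, hfK x⟩) (fun a b => Subtype.ext (hmul a b))
  have hψinj : Function.Injective ψ := by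
    intro a b hab
    have h1 : f a = f b := congrArg Subtype.val hab
    have h2 : g * ix ι (a : Ω) * g⁻¹ = g * ix ι (b : Ω) * g⁻¹ := by rw [← hf a, ← hf b, h1]
    have h3 : ix ι (a : Ω) = ix ι (b : Ω) := mul_left_cancel (mul_right_cancel h2)
    exact Subtype.ext (ix_inj hinj (hK a.2) (hK b.2) h3)
  have hfin : Finite K :=
    Finite.of_injective (fun x : K => ι ⟨x, hK x.2⟩) (fun a b hab => by
      have e := hinj hab
      exact Subtype.ext (Subtype.mk.inj e))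
  have hbij : Function.Bijective ψ := Finite.injective_iff_bijective.mp hψinj
  exact ⟨MulEquiv.ofBijective ψ hbij, fun x => hf x⟩

/-- an automorphism in `Aut_F(K)` is induced by an element of `G` -/
theorem exists_of_mem_autGroup {F : FusionSystem S} {ι : S →* G} (hreal : F.IsRealizedBy ι)
    {K : Subgroup Ω} (hK : K ≤ S) {α : MulAut K} (hα : α ∈ F.autGroup K) :
    ∃ n : G, ∀ x : K, ix ι (α x : Ω) = n * ix ι x * n⁻¹ := by
  rw [mem_autGroup_iff F hK] at hα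
  exact (mem_iff_ix hreal hK _ (fun x => hK (α x).2)).mp hα

theorem mem_autGroup_of {F : FusionSystem S} {ι : S →* G} (hreal : F.IsRealizedBy ι)
    {K : Subgroup Ω} (hK : K ≤ S) {α : MulAut K} (n : G)
    (hn : ∀ x : K, ix ι (α x : Ω) = n * ix ι x * n⁻¹) : α ∈ F.autGroup K := by
  rw [mem_autGroup_iff F hK]
  exact (mem_iff_ix hreal hK _ (fun x => hK (α x).2)).mpr ⟨n, hn⟩

/-- maps induced through `ι` by a subgroup are injective -/
theorem inj_of_ix {ι : S →* G} (hinj : Function.Injective ι) {P : Subgroup Ω} (hP : P ≤ S)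
    (φ : P →* Ω) (g : G) (hg : ∀ x : P, ix ι (φ x) = g * ix ι x * g⁻¹) :
    Function.Injective φ := by
  intro a b hab
  have h1 : g * ix ι (a : Ω) * g⁻¹ = g * ix ι (b : Ω) * g⁻¹ := by rw [← hg a, ← hg b, hab]
  have h2 : ix ι (a : Ω) = ix ι (b : Ω) := mul_left_cancel (mul_right_cancel h1)
  exact Subtype.ext (ix_inj hinj (hP a.2) (hP b.2) h2)

/-- the system induced by the subgroup `N` of the realizing group, read through `ι` -/
noncomputable def pullSys (ι : S →* G) (hinj : Function.Injective ι) (N : Subgroup G) :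
    FusionSystem (preSub ι N) where
  Hom P := {φ | P ≤ preSub ι N ∧ (∀ x : P, φ x ∈ preSub ι N) ∧
    ∃ g ∈ N, ∀ x : P, ix ι (φ x) = g * ix ι x * g⁻¹}
  le_of_mem h := ⟨h.1, h.2.1⟩
  injective_of_mem := by
    rintro P φ ⟨hP, -, g, -, hg⟩
    exact inj_of_ix hinj (hP.trans (preSub_le ι N)) φ g hg
  conj_mem := by
    intro P g hP hg
    have hgS := preSub_le ι N hg
    refine ⟨hP, fun x => ?_, ix ι g, (mem_preSub_iff.mp hg).2, fun x => ?_⟩
    · show g * (x : Ω) * g⁻¹ ∈ preSub ι N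
      exact Subgroup.mul_mem _ (Subgroup.mul_mem _ hg (hP x.2)) (Subgroup.inv_mem _ hg)
    · have hxS := preSub_le ι N (hP x.2)
      show ix ι (g * (x : Ω) * g⁻¹) = _
      rw [ix_mul ι (S.mul_mem hgS hxS) (S.inv_mem hgS), ix_mul ι hgS hxS, ix_inv ι hgS]
  comp_mem := by
    rintro P Q φ ψ ⟨hP, -, g, hgN, hg⟩ ⟨-, hψ, h, hhN, hh⟩ hPQ
    refine ⟨hP, fun x => hψ _, h * g, N.mul_mem hhN hgN, fun x => ?_⟩
    show ix ι (ψ ⟨φ x, hPQ x⟩) = _
    rw [hh ⟨φ x, hPQ x⟩]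
    show h * ix ι (φ x) * h⁻¹ = _
    rw [hg x]
    group
  inv_mem := by
    rintro P φ ⟨hP, hφ, g, hgN, hg⟩
    have hφinj : Function.Injective φ := inj_of_ix hinj (hP.trans (preSub_le ι N)) φ g hg
    refine ⟨P.subtype.comp (MonoidHom.ofInjective hφinj).symm.toMonoidHom, ⟨?_, ?_, g⁻¹,
      N.inv_mem hgN, ?_⟩, ?_⟩
    · rintro _ ⟨x, rfl⟩
      exact hφ x
    · intro y
      exact hP ((MonoidHom.ofInjective hφinj).symm y).2
    · intro y
      obtain ⟨x, rfl⟩ := (MonoidHom.ofInjective hφinj).surjective y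
      show ix ι (((MonoidHom.ofInjective hφinj).symm ((MonoidHom.ofInjective hφinj) x) : P) : Ω)
        = g⁻¹ * ix ι (((MonoidHom.ofInjective hφinj) x : φ.range) : Ω) * g⁻¹⁻¹
      rw [MulEquiv.symm_apply_apply]
      show ix ι (x : Ω) = g⁻¹ * ix ι (φ x) * g⁻¹⁻¹
      rw [hg x]
      group
    · intro x
      show (((MonoidHom.ofInjective hφinj).symm ⟨φ x, ⟨x, rfl⟩⟩ : P) : Ω) = x
      have : (⟨φ x, ⟨x, rfl⟩⟩ : φ.range) = (MonoidHom.ofInjective hφinj) x := rfl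
      rw [this, MulEquiv.symm_apply_apply]

theorem mem_pullSys {ι : S →* G} {hinj : Function.Injective ι} {N : Subgroup G}
    {P : Subgroup Ω} {φ : P →* Ω} :
    φ ∈ (pullSys ι hinj N).Hom P ↔ P ≤ preSub ι N ∧ (∀ x : P, φ x ∈ preSub ι N) ∧
      ∃ g ∈ N, ∀ x : P, ix ι (φ x) = g * ix ι x * g⁻¹ := Iff.rfl

theorem ix_mem_of_mem_preSub {ι : S →* G} {N : Subgroup G} {x : Ω} (hx : x ∈ preSub ι N) :
    ix ι x ∈ ι.range ⊓ N :=
  Subgroup.mem_inf.mpr ⟨ix_mem_range ι (preSub_le ι N hx), (mem_preSub_iff.mp hx).2⟩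

theorem exists_of_mem_inf (ι : S →* G) {N : Subgroup G} {y : G} (hy : y ∈ ι.range ⊓ N) :
    ∃ x ∈ preSub ι N, ix ι x = y := by
  obtain ⟨x, hxS, rfl⟩ := exists_of_mem_range ι (Subgroup.mem_inf.mp hy).1
  exact ⟨x, mem_preSub_iff.mpr ⟨hxS, (Subgroup.mem_inf.mp hy).2⟩, rfl⟩

theorem ix_mem_centralizer (ι : S →* G) {N : Subgroup G} {x : Ω} (hxS : x ∈ S)
    (hx : x ∈ Subgroup.centralizer (preSub ι N : Set Ω)) :
    ix ι x ∈ Subgroup.centralizer ((ι.range ⊓ N : Subgroup G) : Set G) := by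
  rw [Subgroup.mem_centralizer_iff]
  intro y hy
  obtain ⟨s, hs, rfl⟩ := exists_of_mem_inf ι hy
  have hsS := preSub_le ι N hs
  rw [← ix_mul ι hsS hxS, ← ix_mul ι hxS hsS, Subgroup.mem_centralizer_iff.mp hx s hs]

theorem mem_centralizer_of_ix {ι : S →* G} (hinj : Function.Injective ι) {N : Subgroup G}
    {x : Ω} (hxS : x ∈ S)
    (hx : ix ι x ∈ Subgroup.centralizer ((ι.range ⊓ N : Subgroup G) : Set G)) :
    x ∈ Subgroup.centralizer (preSub ι N : Set Ω) := by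
  rw [Subgroup.mem_centralizer_iff]
  intro s hs
  have hsS := preSub_le ι N hs
  apply ix_inj hinj (S.mul_mem hsS hxS) (S.mul_mem hxS hsS)
  rw [ix_mul ι hsS hxS, ix_mul ι hxS hsS]
  exact Subgroup.mem_centralizer_iff.mp hx _ (ix_mem_of_mem_preSub hs)

/-- the homomorphism `preSub ι N →* N` induced by `ι` -/
noncomputable def pullHom (ι : S →* G) (N : Subgroup G) : ↥(preSub ι N) →* ↥N :=
  (ι.comp (Subgroup.inclusion (preSub_le ι N))).codRestrict N (fun x => map_mem_of_mem_preSub x)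

theorem pullHom_coe (ι : S →* G) (N : Subgroup G) (x : ↥(preSub ι N)) :
    ((pullHom ι N x : N) : G) = ix ι (x : Ω) := by
  rw [ix_of_mem ι (preSub_le ι N x.2)]; rfl

theorem pullSys_realized (ι : S →* G) (hinj : Function.Injective ι) (N : Subgroup G) :
    (pullSys ι hinj N).IsRealizedBy (pullHom ι N) := by
  refine ⟨?_, ?_⟩
  · intro a b hab
    have h1 : ix ι (a : Ω) = ix ι (b : Ω) := by
      rw [← pullHom_coe, ← pullHom_coe, hab]
    exact Subtype.ext (ix_inj hinj (preSub_le ι N a.2) (preSub_le ι N b.2) h1)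
  · intro P hP φ hφ
    rw [mem_pullSys]
    constructor
    · rintro ⟨-, -, g, hgN, hg⟩
      refine ⟨⟨g, hgN⟩, fun x => Subtype.ext ?_⟩
      show ((pullHom ι N ⟨φ x, hφ x⟩ : N) : G) = g * ((pullHom ι N ⟨x, hP x.2⟩ : N) : G) * g⁻¹
      rw [pullHom_coe, pullHom_coe]
      exact hg x
    · rintro ⟨g, hg⟩
      refine ⟨hP, hφ, g, g.2, fun x => ?_⟩
      have h1 : ((pullHom ι N ⟨φ x, hφ x⟩ : N) : G) =
          (g : G) * ((pullHom ι N ⟨x, hP x.2⟩ : N) : G) * (g : G)⁻¹ :=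
        congrArg Subtype.val (hg x)
      rw [pullHom_coe, pullHom_coe] at h1
      exact h1

theorem exists_sylow_pullHom [Finite G] {p : ℕ} [Fact p.Prime] (ι : S →* G) (T : Sylow p G)
    (hT : (T : Subgroup G) = ι.range) (N : Subgroup G) [N.Normal] :
    ∃ R : Sylow p ↥N, (R : Subgroup ↥N) = (pullHom ι N).range := by
  have hsyl : IsSylIn p ((T : Subgroup G) ⊓ N) N :=
    (isSylIn_of_sylow T le_top).inf_of_le_normalizer le_top le_top
      (by rw [Subgroup.normalizer_eq_top])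
  obtain ⟨R, hR⟩ := hsyl
  refine ⟨R, ?_⟩
  rw [hR]
  ext y
  rw [Subgroup.mem_subgroupOf, hT]
  constructor
  · intro hy
    obtain ⟨x, hx, hxy⟩ := exists_of_mem_inf ι hy
    exact ⟨⟨x, hx⟩, Subtype.ext (by rw [pullHom_coe]; exact hxy)⟩
  · rintro ⟨x, rfl⟩
    rw [pullHom_coe]
    exact ix_mem_of_mem_preSub x.2

theorem pullHom_range_map (ι : S →* G) (N : Subgroup G) :
    (pullHom ι N).range.map N.subtype = ι.range ⊓ N := by
  ext y
  constructor
  · rintro ⟨_, ⟨x, rfl⟩, rfl⟩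
    show ((pullHom ι N x : N) : G) ∈ _
    rw [pullHom_coe]; exact ix_mem_of_mem_preSub x.2
  · intro hy
    obtain ⟨x, hx, rfl⟩ := exists_of_mem_inf ι hy
    exact ⟨pullHom ι N ⟨x, hx⟩, ⟨_, rfl⟩, pullHom_coe ι N ⟨x, hx⟩⟩

/-- `ι` carries `S₀ C_S(S₀)` into `T₀ C_T(T₀)` (`S₀ = preSub ι N`, `T₀ = ι.range ⊓ N`). -/
theorem ix_mem_sup (ι : S →* G) (N : Subgroup G) {x : Ω}
    (hx : x ∈ preSub ι N ⊔ centralizerIn S (preSub ι N)) :
    ix ι x ∈ (ι.range ⊓ N) ⊔ centralizerIn ι.range (ι.range ⊓ N) := by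
  have h : preSub ι N ⊔ centralizerIn S (preSub ι N) ≤
      preSub ι ((ι.range ⊓ N) ⊔ centralizerIn ι.range (ι.range ⊓ N)) := by
    refine sup_le ?_ ?_
    · intro z hz
      exact mem_preSub_iff.mpr ⟨preSub_le ι N hz, Subgroup.mem_sup_left (ix_mem_of_mem_preSub hz)⟩
    · intro z hz
      have hz' := Subgroup.mem_inf.mp hz
      exact mem_preSub_iff.mpr ⟨hz'.1, Subgroup.mem_sup_right
        (Subgroup.mem_inf.mpr ⟨ix_mem_range ι hz'.1, ix_mem_centralizer ι hz'.1 hz'.2⟩)⟩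
  exact (mem_preSub_iff.mp (h hx)).2

/-- every element of `T₀ C_T(T₀)` comes from `S₀ C_S(S₀)`. -/
theorem exists_of_mem_sup {ι : S →* G} (hinj : Function.Injective ι) (N : Subgroup G) {y : G}
    (hy : y ∈ (ι.range ⊓ N) ⊔ centralizerIn ι.range (ι.range ⊓ N)) :
    ∃ x ∈ preSub ι N ⊔ centralizerIn S (preSub ι N), ix ι x = y := by
  have h : (ι.range ⊓ N) ⊔ centralizerIn ι.range (ι.range ⊓ N) ≤
      imSub ι (preSub ι N ⊔ centralizerIn S (preSub ι N)) := by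
    refine sup_le ?_ ?_
    · intro z hz
      obtain ⟨x, hx, rfl⟩ := exists_of_mem_inf ι hz
      exact mem_imSub.mpr ⟨⟨x, preSub_le ι N hx⟩, Subgroup.mem_sup_left hx,
        (ix_of_mem ι _).symm⟩
    · intro z hz
      have hz' := Subgroup.mem_inf.mp hz
      obtain ⟨x, hxS, rfl⟩ := exists_of_mem_range ι hz'.1
      exact mem_imSub.mpr ⟨⟨x, hxS⟩, Subgroup.mem_sup_right
        (Subgroup.mem_inf.mpr ⟨hxS, mem_centralizer_of_ix hinj hxS hz'.2⟩), (ix_of_mem ι _).symm⟩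
  obtain ⟨x, hxK, rfl⟩ := mem_imSub.mp (h hy)
  exact ⟨x, hxK, ix_of_mem ι x.2⟩

/-- **A normal subgroup of a realizing group induces a normal subsystem.** -/
theorem pullSys_isNormalIn [Finite G] {p : ℕ} [Fact p.Prime] {F : FusionSystem S} {ι : S →* G}
    (hreal : F.IsRealizedBy ι) (T : Sylow p G) (hT : (T : Subgroup G) = ι.range)
    (N : Subgroup G) [nN : N.Normal] : (pullSys ι hreal.1 N).IsNormalIn F p := by
  classical
  have hinj := hreal.1
  have hS₀ : preSub ι N ≤ S := preSub_le ι N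
  obtain ⟨R, hR⟩ := exists_sylow_pullHom ι T hT N
  have hEsat : (pullSys ι hinj N).IsSaturated p :=
    realized_isSaturated (pullSys_realized ι hinj N) R hR
  refine ⟨⟨hEsat, realized_isSaturated hreal T hT, ?_, ?_, ?_, ?_⟩, ?_⟩
  · -- subsystem
    rintro P φ ⟨hP, hφ, g, -, hg⟩
    exact (mem_iff_ix hreal (hP.trans hS₀) φ (fun x => hS₀ (hφ x))).mpr ⟨g, hg⟩
  · -- strongly closed
    refine ⟨hS₀, ?_⟩
    intro R' hR' φ hφ x
    have hφS := (F.le_of_mem hφ).2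
    obtain ⟨g, hg⟩ := (mem_iff_ix hreal (hR'.trans hS₀) φ hφS).mp hφ
    rw [mem_preSub_iff]
    refine ⟨hφS x, ?_⟩
    rw [hg]
    exact nN.conj_mem _ (mem_preSub_iff.mp (hR' x.2)).2 g
  · -- invariance
    rintro P hPT φ ⟨-, hφT, h, hhN, hh⟩ α hα
    obtain ⟨n, hn⟩ := exists_of_mem_autGroup hreal hS₀ hα
    have hP' : (P.subgroupOf (preSub ι N)).map ((preSub ι N).subtype.comp α.toMonoidHom) ≤
        preSub ι N := by
      rintro _ ⟨y, -, rfl⟩
      exact (α y).2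
    have key : ∀ (t : ↥(preSub ι N)) (ht : (t : Ω) ∈ P),
        n * h * n⁻¹ * ix ι ((α t : ↥(preSub ι N)) : Ω) * (n * h * n⁻¹)⁻¹ =
          ix ι ((α ⟨φ ⟨t, ht⟩, hφT _⟩ : ↥(preSub ι N)) : Ω) := by
      intro t ht
      rw [hn, hn]
      show _ = n * ix ι (φ ⟨t, ht⟩) * n⁻¹
      rw [hh]
      group
    obtain ⟨χ, hχS, hχ⟩ := lift_conj hinj (hP'.trans hS₀) (n * h * n⁻¹) (by
      rintro ⟨_, t, ht, rfl⟩
      show n * h * n⁻¹ * ix ι ((α t : ↥(preSub ι N)) : Ω) * (n * h * n⁻¹)⁻¹ ∈ ι.range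
      rw [key t ht]
      exact ix_mem_range ι (hS₀ (α _).2))
    refine ⟨χ, ⟨hP', fun y => ?_, n * h * n⁻¹, nN.conj_mem h hhN n, hχ⟩, ?_⟩
    · rw [mem_preSub_iff]
      refine ⟨hχS y, ?_⟩
      rw [hχ]
      exact nN.conj_mem _ (mem_preSub_iff.mp (hP' y.2)).2 _
    · intro x hφx hαx
      apply ix_inj hinj (hχS _) (hS₀ (α _).2)
      rw [hχ]
      exact key ⟨x, hPT x.2⟩ x.2
  · -- Frattini
    intro P hP φ hφ
    have hφS := (F.le_of_mem hφ).2
    obtain ⟨g, hg⟩ := (mem_iff_ix hreal (hP.trans hS₀) φ hφS).mp hφ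
    have hfr := Sylow.normalizer_sup_eq_top R
    rw [hR, pullHom_range_map] at hfr
    have hgmem : g ∈ Subgroup.normalizer ((ι.range ⊓ N : Subgroup G) : Set G) ⊔ N := by
      rw [hfr]; trivial
    obtain ⟨n, hnN, h, hhN, rfl⟩ := Subgroup.mem_sup_of_normal_right.mp hgmem
    obtain ⟨α, hα⟩ := exists_mulAut_lift hinj hS₀ n (fun x => by
      have h1 : n * ix ι (x : Ω) * n⁻¹ ∈ ι.range ⊓ N :=
        (Subgroup.mem_normalizer_iff.mp hnN _).mp (ix_mem_of_mem_preSub x.2)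
      exact exists_of_mem_inf ι h1)
    have hhx : ∀ x : P, h * ix ι (x : Ω) * h⁻¹ ∈ ι.range ⊓ N := by
      intro x
      have h1 : n * (h * ix ι (x : Ω) * h⁻¹) * n⁻¹ ∈ ι.range ⊓ N := by
        have h2 : n * (h * ix ι (x : Ω) * h⁻¹) * n⁻¹ = ix ι (φ x) := by rw [hg]; group
        rw [h2]
        refine Subgroup.mem_inf.mpr ⟨ix_mem_range ι (hφS x), ?_⟩
        rw [hg]; exact nN.conj_mem _ (mem_preSub_iff.mp (hP x.2)).2 _
      exact (Subgroup.mem_normalizer_iff.mp hnN _).mpr h1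
    obtain ⟨φ₀, hφ₀S, hφ₀⟩ := lift_conj hinj (hP.trans hS₀) h
      (fun x => (Subgroup.mem_inf.mp (hhx x)).1)
    refine ⟨α, mem_autGroup_of hreal hS₀ n hα, φ₀, ⟨hP, fun x => ?_, h, hhN, hφ₀⟩, ?_⟩
    · rw [mem_preSub_iff]
      exact ⟨hφ₀S x, by rw [hφ₀]; exact (Subgroup.mem_inf.mp (hhx x)).2⟩
    · intro x hx
      apply ix_inj hinj (hφS x) (hS₀ (α _).2)
      rw [hα, hg]
      show _ = n * ix ι (φ₀ x) * n⁻¹
      rw [hφ₀]
      group
  · -- extension condition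
    intro α hα
    rw [mem_autGroup_iff _ le_rfl] at hα
    obtain ⟨-, -, h, hhN, hh⟩ := hα
    have hh' : ∀ x : ↥(preSub ι N), ix ι ((α x : ↥(preSub ι N)) : Ω) = h * ix ι (x : Ω) * h⁻¹ := hh
    have hhnorm : h ∈ Subgroup.normalizer ((ι.range ⊓ N : Subgroup G) : Set G) := by
      apply mem_normalizer_of_conj_mem
      intro y hy
      obtain ⟨x, hx, rfl⟩ := exists_of_mem_inf ι hy
      rw [← hh' ⟨x, hx⟩]
      exact ix_mem_of_mem_preSub (α _).2
    obtain ⟨α', hα'⟩ := exists_mulAut_conj hhnorm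
    have hα'mem : α' ∈ (fusionSystemOfSubgroup N (ι.range ⊓ N) inf_le_right).autGroup
        (ι.range ⊓ N) := by
      rw [rel_autGroup_eq inf_le_right le_rfl, mem_autInducedBy_iff]
      exact ⟨h, hhN, hα'⟩
    have hnorm := Cfsg.Agent.S5118.normalIn_aux p T N (ι.range ⊓ N) (by rw [hT]) inf_le_right
    obtain ⟨β', hβ'mem, hβ'1, hβ'2⟩ := hnorm.2 α' hα'mem
    have hK'T : (ι.range ⊓ N) ⊔ centralizerIn (T : Subgroup G) (ι.range ⊓ N) ≤ (T : Subgroup G) :=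
      sup_le (hT ▸ inf_le_left) inf_le_left
    obtain ⟨-, -, g, hg⟩ :=
      (mem_autGroup_iff (groupFusionSystem (T : Subgroup G)) hK'T β').mp hβ'mem
    have hg' : ∀ y : ↥((ι.range ⊓ N) ⊔ centralizerIn (T : Subgroup G) (ι.range ⊓ N)),
        ((β' y : ↥((ι.range ⊓ N) ⊔ centralizerIn (T : Subgroup G) (ι.range ⊓ N))) : G) =
          g * (y : G) * g⁻¹ := hg
    have hKS : preSub ι N ⊔ centralizerIn S (preSub ι N) ≤ S := sup_le hS₀ inf_le_left
    have hmemK' : ∀ x : Ω, x ∈ preSub ι N ⊔ centralizerIn S (preSub ι N) →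
        ix ι x ∈ (ι.range ⊓ N) ⊔ centralizerIn (T : Subgroup G) (ι.range ⊓ N) := by
      intro x hx
      rw [hT]
      exact ix_mem_sup ι N hx
    obtain ⟨β, hβ⟩ := exists_mulAut_lift hinj hKS g (fun x => by
      have h1 := hg' ⟨ix ι (x : Ω), hmemK' x x.2⟩
      have h2 : g * ix ι (x : Ω) * g⁻¹ ∈
          (ι.range ⊓ N) ⊔ centralizerIn (T : Subgroup G) (ι.range ⊓ N) := by
        rw [← h1]
        exact (β' _).2
      rw [hT] at h2
      exact exists_of_mem_sup hinj N h2)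
    refine ⟨β, mem_autGroup_of hreal hKS g hβ, ?_, ?_⟩
    · intro x
      apply ix_inj hinj (hKS (β _).2) (hS₀ (α x).2)
      rw [hβ, hh']
      show g * ix ι (x : Ω) * g⁻¹ = _
      have h1 := hβ'1 ⟨ix ι (x : Ω), ix_mem_of_mem_preSub x.2⟩
      rw [hg', hα'] at h1
      exact h1
    · intro c hc
      have hcS : (c : Ω) ∈ S := (Subgroup.mem_inf.mp hc).1
      have hβS : ((β c : ↥(preSub ι N ⊔ centralizerIn S (preSub ι N))) : Ω) ∈ S := hKS (β c).2
      have hcC : ix ι (c : Ω) ∈ centralizerIn (T : Subgroup G) (ι.range ⊓ N) := by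
        rw [hT]
        exact Subgroup.mem_inf.mpr ⟨ix_mem_range ι hcS,
          ix_mem_centralizer ι hcS (Subgroup.mem_inf.mp hc).2⟩
      have h1 := hβ'2 ⟨ix ι (c : Ω), hmemK' c c.2⟩ hcC
      rw [hg'] at h1
      have h2 : ix ι ((c : Ω)⁻¹ * ((β c : ↥(preSub ι N ⊔ centralizerIn S (preSub ι N))) : Ω)) =
          (ix ι (c : Ω))⁻¹ * (g * ix ι (c : Ω) * g⁻¹) := by
        rw [ix_mul ι (S.inv_mem hcS) hβS, ix_inv ι hcS, hβ]
      have hzS : (c : Ω)⁻¹ * ((β c : ↥(preSub ι N ⊔ centralizerIn S (preSub ι N))) : Ω) ∈ S :=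
        S.mul_mem (S.inv_mem hcS) hβS
      have h3 := Subgroup.mem_inf.mp h1
      refine Subgroup.mem_inf.mpr ⟨?_, ?_⟩
      · rw [mem_preSub_iff]
        refine ⟨hzS, ?_⟩
        rw [h2]
        exact (Subgroup.mem_inf.mp h3.1).2
      · apply mem_centralizer_of_ix hinj hzS
        rw [h2]
        exact h3.2

end

end Cfsg.Agent.Lib.Helper89.RealSimple
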