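import Cfsg.Agent.Lib.Helper89.Dickson

set_option autoImplicit false

namespace Cfsg.Agent.Lib.Helper89

open Matrix Cfsg.Agent.Lib.Helper41 Cfsg.Agent.Lib.Helper5.SL2
open scoped Pointwise

variable {F : Type*} [Field F]

/-- the trace of `u(1) * (h u(1) h⁻¹)` is `2 - c²`, `c` the lower left entry of `h` -/
theorem trace_uSL_mul_conj (h : SpecialLinearGroup (Fin 2) F) :
    (uSL 1 * (h * uSL 1 * h⁻¹)).1.trace = 2 - h.1 1 0 * h.1 1 0 := by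
  have hd := sl_det h
  rw [sl_trace]
  simp only [sl_mul_00, sl_mul_01, sl_mul_10, sl_mul_11, sl_inv_00, sl_inv_01, sl_inv_10,
    sl_inv_11, uSL_00, uSL_01, uSL_10, uSL_11]
  linear_combination 2 * hd

theorem diagAut_trace (b : F) (hb : b ≠ 0) (g : SpecialLinearGroup (Fin 2) F) :
    (diagAut b hb g).1.trace = g.1.trace := by
  rw [diagAut_apply, sl_trace, sl_trace, diagFun_00, diagFun_11]

/-- **Dickson, element form**: `H ≤ SL₂(F)`, `F` finite of odd characteristic `p`; if `x ∈ H`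
is a `p`-element which does not commute with some `H`-conjugate of itself, then there is
`h ∈ H` with `tr (x * (h x h⁻¹)) = 1` (so `tr - 2 = -1 ∈ 𝔽_p^×` and `⟨x, h x h⁻¹⟩ ≅ SL₂(p)`). -/
theorem dickson_trace [Fintype F] (p : ℕ) [Fact p.Prime] [CharP F p] (hp : p ≠ 2)
    (H : Subgroup (SpecialLinearGroup (Fin 2) F)) {x h₀ : SpecialLinearGroup (Fin 2) F} {k : ℕ}
    (hx : x ∈ H) (hxp : x ^ p ^ k = 1) (hh₀ : h₀ ∈ H)
    (hnc : x * (h₀ * x * h₀⁻¹) ≠ h₀ * x * h₀⁻¹ * x) :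
    ∃ h ∈ H, (x * (h * x * h⁻¹)).1.trace = 1 := by
  classical
  have hx1 : x ≠ 1 := by
    rintro rfl
    apply hnc
    group
  have hZ : IsPGroup p (Subgroup.zpowers x) := by
    rintro ⟨g, hg⟩
    obtain ⟨j, rfl⟩ := Subgroup.mem_zpowers_iff.1 hg
    refine ⟨k, ?_⟩
    apply Subtype.ext
    show (x ^ j) ^ p ^ k = 1
    rw [← zpow_natCast, ← _root_.zpow_mul, mul_comm, _root_.zpow_mul, zpow_natCast, hxp,
      _root_.one_zpow]
  obtain ⟨R, hR⟩ := hZ.exists_le_sylow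
  obtain ⟨B, hB⟩ := exists_conj_eq p R
  obtain ⟨b, hb⟩ := (hB x).1 (hR (Subgroup.mem_zpowers _))
  have hb0 : b ≠ 0 := by
    rintro rfl
    apply hx1
    rw [hb, uSL_zero]; group
  obtain ⟨Φ, hΦ⟩ : ∃ Φ : SpecialLinearGroup (Fin 2) F ≃* SpecialLinearGroup (Fin 2) F,
      Φ = (MulAut.conj B⁻¹).trans (diagAut b hb0) := ⟨_, rfl⟩
  have hΦtr : ∀ g : SpecialLinearGroup (Fin 2) F, (Φ g).1.trace = g.1.trace := by
    intro g
    rw [hΦ]
    show (diagAut b hb0 (B⁻¹ * g * B⁻¹⁻¹)).1.trace = g.1.trace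
    rw [diagAut_trace, trace_conj']
  have hΦx : Φ x = uSL 1 := by
    rw [hΦ]
    show diagAut b hb0 (B⁻¹ * x * B⁻¹⁻¹) = uSL 1
    have : B⁻¹ * x * B⁻¹⁻¹ = uSL b := by rw [hb]; group
    rw [this, diagAut_uSL]
  have h1 : uSL 1 ∈ H.map Φ.toMonoidHom := ⟨x, hx, hΦx⟩
  have hg : Φ h₀ ∈ H.map Φ.toMonoidHom := ⟨h₀, hh₀, rfl⟩
  have hg0 : (Φ h₀).1 1 0 ≠ 0 := by
    intro h10
    apply hnc
    apply Φ.injective
    have e1 : Φ (h₀ * x * h₀⁻¹) = uSL ((Φ h₀).1 0 0 * (Φ h₀).1 0 0 * 1) := by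
      rw [map_mul, map_mul, map_inv, hΦx, conj_uSL_of_upper _ h10]
    have e2 : Φ (x * (h₀ * x * h₀⁻¹)) = Φ x * Φ (h₀ * x * h₀⁻¹) := map_mul _ _ _
    have e3 : Φ (h₀ * x * h₀⁻¹ * x) = Φ (h₀ * x * h₀⁻¹) * Φ x := map_mul _ _ _
    rw [e2, e3, e1, hΦx, ← uSL_add, ← uSL_add, add_comm]
  obtain ⟨h', ⟨h, hh, rfl⟩, hsq⟩ := dickson_core p hp (H.map Φ.toMonoidHom) h1 hg hg0
  refine ⟨h, hh, ?_⟩
  rw [← hΦtr, map_mul, map_mul, map_mul, map_inv, hΦx]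
  have := trace_uSL_mul_conj (Φ.toMonoidHom h)
  have e : (Φ.toMonoidHom h) = Φ h := rfl
  rw [e] at this hsq
  rw [this, hsq]
  norm_num

/-- the same with the hypothesis `(x - 1)² = 0` and the conclusion in the form
`tr - 2 = c`, `c ∈ 𝔽_p^×` -/
theorem dickson_trace' [Fintype F] (p : ℕ) [Fact p.Prime] [CharP F p] (hp : p ≠ 2)
    (H : Subgroup (SpecialLinearGroup (Fin 2) F)) {x h₀ : SpecialLinearGroup (Fin 2) F}
    (hx : x ∈ H) (hx2 : (x.1 - 1) * (x.1 - 1) = 0) (hh₀ : h₀ ∈ H)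
    (hnc : x * (h₀ * x * h₀⁻¹) ≠ h₀ * x * h₀⁻¹ * x) :
    ∃ h ∈ H, ∃ c : ZMod p, c ≠ 0 ∧
      (x * (h * x * h⁻¹)).1.trace - 2 = ZMod.castHom (dvd_refl p) F c := by
  have hpp : p.Prime := Fact.out
  have hxp : x ^ p ^ 1 = 1 := by
    rw [pow_one]
    have hmat : (x : Matrix (Fin 2) (Fin 2) F) ^ p = 1 := by
      have hc : Commute (x.1 - 1) (1 : Matrix (Fin 2) (Fin 2) F) := Commute.one_right _
      have e : (x : Matrix (Fin 2) (Fin 2) F) = (x.1 - 1) + 1 := by abel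
      rw [e, add_pow_char_of_commute _ hc, one_pow]
      have h2 : (x.1 - 1) ^ p = 0 := by
        have : p = 2 + (p - 2) := by have := hpp.two_le; omega
        rw [this, pow_add, pow_two, hx2, zero_mul]
      rw [h2, zero_add]
    apply Subtype.ext
    exact (Matrix.SpecialLinearGroup.coe_pow x p).trans hmat
  obtain ⟨h, hh, htr⟩ := dickson_trace p hp H hx hxp hh₀ hnc
  refine ⟨h, hh, -1, ?_, ?_⟩
  · exact neg_ne_zero.2 one_ne_zero
  · rw [htr, map_neg, map_one]; norm_num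

end Cfsg.Agent.Lib.Helper89
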